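import Groth.Prelude.Def_CAlgX
import Groth.Prelude.Def_W4stkadequatePure
import Groth.Agent.S6302
import Mathlib.LinearAlgebra.TensorProduct.Vanishing
import Mathlib.Algebra.Colimit.TensorProduct
import Mathlib.LinearAlgebra.DFinsupp

/-!
# Universally injective maps, pure projective and pure injective modules
-/

set_option autoImplicit false
universe u
open TensorProduct

namespace Groth.Agent.PureExt32

variable {R : Type u} [CommRing R]

/-- Lifting property against surjections with universally injective kernel. -/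
def IsPureProjective (R : Type u) [CommRing R] (P : Type u) [AddCommGroup P] [Module R P] : Prop :=
  ∀ ⦃L N : Type u⦄ [AddCommGroup L] [Module R L] [AddCommGroup N] [Module R N] (g : L →ₗ[R] N),
    Function.Surjective g → CAlgX.UniversallyInjective R (LinearMap.ker g).subtype →
    ∀ φ : P →ₗ[R] N, ∃ ψ : P →ₗ[R] L, g ∘ₗ ψ = φ

/-- Extension property along universally injective maps. -/
def IsPureInjective (R : Type u) [CommRing R] (I : Type u) [AddCommGroup I] [Module R I] : Prop :=
  ∀ ⦃K L : Type u⦄ [AddCommGroup K] [Module R K] [AddCommGroup L] [Module R L] (f : K →ₗ[R] L),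
    CAlgX.UniversallyInjective R f → ∀ φ : K →ₗ[R] I, ∃ ψ : L →ₗ[R] I, ψ ∘ₗ f = φ

variable {M N L : Type u} [AddCommGroup M] [Module R M] [AddCommGroup N] [Module R N]
  [AddCommGroup L] [Module R L]

lemma dual_comp_apply_charEval (f : M →ₗ[R] N) (m : M) :
    CharacterModule.dual (CharacterModule.dual f) (PureExt.charEval R M m) =
      PureExt.charEval R N (f m) := rfl

theorem univInj_iff_dual_split (f : M →ₗ[R] N) :
    CAlgX.UniversallyInjective R f ↔
      ∃ σ : CharacterModule M →ₗ[R] CharacterModule N, CharacterModule.dual f ∘ₗ σ = LinearMap.id := by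
  constructor
  · intro hf
    obtain ⟨e, he⟩ := (rTensor_injective_iff_lcomp_surjective (B := CharacterModule M)).mp
      (hf (CharacterModule M)) (PureExt.charEval R M)
    refine ⟨CharacterModule.dual e ∘ₗ PureExt.charEval R (CharacterModule M), ?_⟩
    ext χ m
    exact congr($he m χ)
  · rintro ⟨σ, hσ⟩ Q _ _
    refine (rTensor_injective_iff_lcomp_surjective (B := Q)).mpr fun g => ?_
    refine ⟨CharacterModule.dual (σ ∘ₗ CharacterModule.dual g ∘ₗ PureExt.charEval R Q) ∘ₗ
      PureExt.charEval R N, ?_⟩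
    ext m q
    exact congr($hσ (CharacterModule.dual g (PureExt.charEval R Q q)) m)

theorem univInj_charEval (M : Type u) [AddCommGroup M] [Module R M] :
    CAlgX.UniversallyInjective R (PureExt.charEval R M) :=
  (univInj_iff_dual_split _).mpr ⟨PureExt.charEval R (CharacterModule M), by ext χ m; rfl⟩

theorem isPureInjective_characterModule (M : Type u) [AddCommGroup M] [Module R M] :
    IsPureInjective R (CharacterModule M) := by
  intro K L' _ _ _ _ f hf φ
  obtain ⟨ψ, hψ⟩ := (rTensor_injective_iff_lcomp_surjective (B := M)).mp (hf M) φ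
  exact ⟨ψ, hψ⟩

theorem isPureInjective_of_retract {I J : Type u} [AddCommGroup I] [Module R I] [AddCommGroup J]
    [Module R J] (s : I →ₗ[R] J) (r : J →ₗ[R] I) (h : r ∘ₗ s = LinearMap.id)
    (hJ : IsPureInjective R J) : IsPureInjective R I := by
  intro K L' _ _ _ _ f hf φ
  obtain ⟨ψ, hψ⟩ := hJ f hf (s ∘ₗ φ)
  exact ⟨r ∘ₗ ψ, by rw [LinearMap.comp_assoc, hψ, ← LinearMap.comp_assoc, h, LinearMap.id_comp]⟩

theorem univInj_range_of_exact (f : L →ₗ[R] M) (g : M →ₗ[R] N)
    (h : ∀ (Q : Type u) [AddCommGroup Q] [Module R Q], Function.Exact (f.rTensor Q) (g.rTensor Q)) :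
    CAlgX.UniversallyInjective R (LinearMap.range g).subtype := by
  intro Q _ _
  refine (injective_iff_map_eq_zero _).mpr fun z hz => ?_
  obtain ⟨w, rfl⟩ := LinearMap.rTensor_surjective Q g.surjective_rangeRestrict z
  rw [← LinearMap.rTensor_comp_apply] at hz
  obtain ⟨v, rfl⟩ := (h Q w).mp hz
  rw [← LinearMap.rTensor_comp_apply]
  have h0 : g ∘ₗ f = 0 := by
    ext l
    have := (h R).apply_apply_eq_zero (l ⊗ₜ (1 : R))
    rw [LinearMap.rTensor_tmul, LinearMap.rTensor_tmul] at this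
    simpa using congrArg (TensorProduct.rid R N) this
  have : g.rangeRestrict ∘ₗ f = 0 := by ext l; exact congr($h0 l)
  rw [this]
  simp

theorem exists_lift_of_finitePresentation {F : Type u} [AddCommGroup F] [Module R F]
    [Module.FinitePresentation R F] (g : M →ₗ[R] N) (hg : Function.Surjective g)
    (hu : CAlgX.UniversallyInjective R (LinearMap.ker g).subtype) (φ : F →ₗ[R] N) :
    ∃ ψ : F →ₗ[R] M, g ∘ₗ ψ = φ := by
  let P : Submodule R (M × F) :=
    LinearMap.ker (g ∘ₗ LinearMap.fst R M F - φ ∘ₗ LinearMap.snd R M F)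
  let i : LinearMap.ker g →ₗ[R] P :=
    (LinearMap.inl R M F ∘ₗ (LinearMap.ker g).subtype).codRestrict P fun k => by
      simp [P]
  let p : P →ₗ[R] F := LinearMap.snd R M F ∘ₗ P.subtype
  have hp : Function.Surjective p := fun x => by
    obtain ⟨m, hm⟩ := hg (φ x)
    exact ⟨⟨(m, x), by simp [P, hm]⟩, rfl⟩
  have hexact : Function.Exact i p := fun x => by
    constructor
    · intro hx
      have h1 : g x.1.1 - φ x.1.2 = 0 := x.2
      have hx' : x.1.2 = 0 := hx
      rw [hx', map_zero, sub_zero] at h1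
      exact ⟨⟨x.1.1, h1⟩, Subtype.ext (Prod.ext rfl hx'.symm)⟩
    · rintro ⟨k, rfl⟩; rfl
  have hi : CAlgX.UniversallyInjective R i := fun Q _ _ => by
    refine Function.Injective.of_comp (f := (LinearMap.fst R M F ∘ₗ P.subtype).rTensor Q) ?_
    rw [← LinearMap.coe_comp, ← LinearMap.rTensor_comp]
    exact hu Q
  obtain ⟨s, hs⟩ := Groth.Agent.S6302.result i p hexact hp hi
  refine ⟨LinearMap.fst R M F ∘ₗ P.subtype ∘ₗ s, ?_⟩
  ext x
  have h1 : g (s x).1.1 - φ (s x).1.2 = 0 := (s x).2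
  have h2 : (s x).1.2 = x := congr($hs x)
  rw [h2] at h1
  exact sub_eq_zero.mp h1

theorem univInj_ker_of_lift (g : M →ₗ[R] N)
    (h : ∀ (n : ℕ) (S : Submodule R (Fin n → R)), S.FG → ∀ φ : ((Fin n → R) ⧸ S) →ₗ[R] N,
      ∃ ψ : ((Fin n → R) ⧸ S) →ₗ[R] M, g ∘ₗ ψ = φ) :
    CAlgX.UniversallyInjective R (LinearMap.ker g).subtype := by
  classical
  intro Q _ _
  suffices Function.Injective ((LinearMap.ker g).subtype.lTensor Q) by
    simpa only [LinearMap.lTensor_inj_iff_rTensor_inj] using this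
  refine (injective_iff_map_eq_zero _).mpr fun z hz => ?_
  obtain ⟨Q₀, hQ₀, z₀, rfl⟩ : ∃ Q₀ : Submodule R Q, Q₀.FG ∧
      ∃ z₀, Q₀.subtype.rTensor (LinearMap.ker g) z₀ = z := by
    obtain ⟨S, hS, hz'⟩ := TensorProduct.exists_finite_submodule_left_of_setFinite {z}
      (Set.finite_singleton z)
    obtain ⟨z₀, hz₀⟩ := hz' rfl
    exact ⟨S, Module.Finite.iff_fg.mp hS, z₀, hz₀⟩
  have hz' : Q₀.subtype.rTensor M ((LinearMap.ker g).subtype.lTensor Q₀ z₀) =
      Q₀.subtype.rTensor M 0 := by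
    rw [map_zero, ← LinearMap.comp_apply, LinearMap.rTensor_comp_lTensor,
      ← LinearMap.lTensor_comp_rTensor]
    exact hz
  obtain ⟨Q₁, hQ₁, hle, h1⟩ := hQ₀.exists_rTensor_fg_inclusion_eq hz'
  suffices (Submodule.inclusion hle).rTensor (LinearMap.ker g) z₀ = 0 by
    rw [← Submodule.subtype_comp_inclusion Q₀ Q₁ hle, LinearMap.rTensor_comp_apply, this, map_zero]
  rw [map_zero, ← LinearMap.comp_apply, LinearMap.rTensor_comp_lTensor,
    ← LinearMap.lTensor_comp_rTensor, LinearMap.comp_apply] at h1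
  generalize (Submodule.inclusion hle).rTensor (LinearMap.ker g) z₀ = z₁ at h1 ⊢
  have : Module.Finite R Q₁ := Module.Finite.iff_fg.mpr hQ₁
  obtain ⟨m, q, hq⟩ := Module.Finite.exists_fin (R := R) (M := Q₁)
  let comb : (Fin m → LinearMap.ker g) →ₗ[R] Q₁ ⊗[R] LinearMap.ker g :=
    ∑ i, (TensorProduct.mk R Q₁ _ (q i)) ∘ₗ LinearMap.proj i
  have hsurj : Function.Surjective comb := by
    rw [← LinearMap.range_eq_top, eq_top_iff, ← TensorProduct.span_tmul_eq_top, Submodule.span_le]
    rintro _ ⟨a, k, rfl⟩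
    obtain ⟨c, rfl⟩ := (Submodule.mem_span_range_iff_exists_fun R).mp
      (hq ▸ Submodule.mem_top : a ∈ Submodule.span R (Set.range q))
    refine ⟨fun i => c i • k, ?_⟩
    simp [comb, TensorProduct.sum_tmul, TensorProduct.smul_tmul]
  obtain ⟨k, rfl⟩ := hsurj z₁
  simp only [comb, LinearMap.coe_sum, Finset.sum_apply, LinearMap.comp_apply, LinearMap.proj_apply,
    TensorProduct.mk_apply, map_sum, LinearMap.lTensor_tmul, Submodule.coe_subtype] at h1 ⊢
  obtain ⟨s, a, y, hay, ha⟩ := TensorProduct.vanishesTrivially_of_sum_tmul_eq_zero R hq h1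
  let a' : Fin m → (Fin s → R) := fun i => a i
  let S := Submodule.span R (Set.range a')
  let comy : (Fin s → R) →ₗ[R] M := ∑ j, (LinearMap.toSpanSingleton R M (y j)) ∘ₗ LinearMap.proj j
  have hcomy : ∀ i, comy (a' i) = (k i : M) := fun i => by
    simp [comy, a', ← hay i]
  let φ : ((Fin s → R) ⧸ S) →ₗ[R] N := S.liftQ (g ∘ₗ comy) <| by
    rw [Submodule.span_le]
    rintro _ ⟨i, rfl⟩
    simp [hcomy i]
  obtain ⟨ψ, hψ⟩ := h s S ⟨Finset.univ.image a', by simp [S]⟩ φ
  let e : Fin s → Fin s → R := fun j => Pi.single j 1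
  have hcy : ∀ j, comy (e j) = y j := fun j => by
    simp [comy, e, Pi.single_apply]
  let w : Fin s → LinearMap.ker g := fun j =>
    ⟨y j - ψ (S.mkQ (e j)), by
      rw [LinearMap.mem_ker, map_sub, sub_eq_zero]
      exact ((congrArg g (hcy j)).symm).trans congr($hψ (S.mkQ (e j))).symm⟩
  have hk : ∀ i, k i = ∑ j, a i j • w j := fun i => by
    apply Subtype.ext
    have hsum : a' i = ∑ j, a i j • e j := by
      ext j'
      simp [a', e, Finset.sum_apply, Pi.single_apply]
    have h0 : ψ (S.mkQ (a' i)) = 0 := by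
      rw [(Submodule.Quotient.mk_eq_zero S).mpr (Submodule.subset_span ⟨i, rfl⟩) |>
        (fun e : S.mkQ (a' i) = 0 => e), map_zero]
    rw [hsum] at h0
    simp only [map_sum, map_smul, Submodule.mkQ_apply] at h0
    simp [w, smul_sub, Finset.sum_sub_distrib, h0, hay i]
  simp only [hk, TensorProduct.tmul_sum, TensorProduct.tmul_smul, TensorProduct.smul_tmul']
  rw [Finset.sum_comm]
  refine Finset.sum_eq_zero fun j _ => ?_
  rw [← TensorProduct.sum_tmul, ha j, TensorProduct.zero_tmul]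

/-- Index of all maps from standard finitely presented modules to `M`. -/
abbrev CoverIndex (R : Type u) [CommRing R] (M : Type u) [AddCommGroup M] [Module R M] : Type u :=
  Σ (n : ℕ) (s : Finset (Fin n → R)), ((Fin n → R) ⧸ Submodule.span R (s : Set (Fin n → R))) →ₗ[R] M

/-- The summands of the pure cover. -/
abbrev CoverMod (i : CoverIndex R M) : Type u :=
  (Fin i.1 → R) ⧸ Submodule.span R (i.2.1 : Set (Fin i.1 → R))

theorem exists_pure_cover (M : Type u) [AddCommGroup M] [Module R M] :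
    ∃ (ι : Type u) (Q : ι → Type u) (_ : ∀ i, AddCommGroup (Q i)) (_ : ∀ i, Module R (Q i)),
      (∀ i, Module.FinitePresentation R (Q i)) ∧
      ∃ g : (Π₀ i, Q i) →ₗ[R] M, Function.Surjective g ∧
        CAlgX.UniversallyInjective R (LinearMap.ker g).subtype := by
  classical
  refine ⟨CoverIndex R M, CoverMod, inferInstance, inferInstance, fun i =>
      Module.finitePresentation_of_surjective (Submodule.mkQ _)
      (Submodule.mkQ_surjective _) (by rw [Submodule.ker_mkQ]; exact ⟨i.2.1, rfl⟩),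
    DFinsupp.lsum ℕ fun i => i.2.2, fun m => ?_, univInj_ker_of_lift _ fun n S hS φ => ?_⟩
  · let f : ((Fin 1 → R) ⧸ Submodule.span R ((∅ : Finset (Fin 1 → R)) : Set (Fin 1 → R))) →ₗ[R] M :=
      Submodule.liftQ _ (LinearMap.toSpanSingleton R M m ∘ₗ LinearMap.proj 0) (by simp)
    refine ⟨DFinsupp.single (⟨1, ∅, f⟩ : CoverIndex R M) (Submodule.mkQ _ fun _ => (1 : R)), ?_⟩
    rw [DFinsupp.lsum_single]
    simp [f]
  · obtain ⟨s, rfl⟩ := hS
    refine ⟨DFinsupp.lsingle (R := R) (M := CoverMod (R := R) (M := M)) (⟨n, s, φ⟩ : CoverIndex R M), ?_⟩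
    exact LinearMap.ext fun x =>
      DFinsupp.lsum_single ℕ (fun i : CoverIndex R M => i.2.2) (⟨n, s, φ⟩ : CoverIndex R M) x

theorem isPureProjective_of_summand {P : Type u} [AddCommGroup P] [Module R P] {ι : Type u}
    {Q : ι → Type u} [∀ i, AddCommGroup (Q i)] [∀ i, Module R (Q i)]
    (hQ : ∀ i, Module.FinitePresentation R (Q i)) (s : P →ₗ[R] (Π₀ i, Q i))
    (r : (Π₀ i, Q i) →ₗ[R] P) (hrs : r ∘ₗ s = LinearMap.id) : IsPureProjective R P := by
  classical
  intro L' N' _ _ _ _ g hg hu φ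
  choose ψ hψ using fun i => exists_lift_of_finitePresentation g hg hu
    (φ ∘ₗ r ∘ₗ DFinsupp.lsingle i)
  refine ⟨DFinsupp.lsum ℕ ψ ∘ₗ s, ?_⟩
  have : g ∘ₗ DFinsupp.lsum ℕ ψ = φ ∘ₗ r := DFinsupp.lhom_ext' fun i => LinearMap.ext fun x => by
    simp only [LinearMap.comp_apply]
    exact (congrArg g (DFinsupp.lsum_single ℕ ψ i x)).trans congr($(hψ i) x)
  rw [← LinearMap.comp_assoc, this, LinearMap.comp_assoc, hrs, LinearMap.comp_id]

/-- A pure projective module lifts against universally exact pairs. -/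
theorem IsPureProjective.exists_lift {P : Type u} [AddCommGroup P] [Module R P]
    (hP : IsPureProjective R P) (g : M →ₗ[R] N)
    (hu : CAlgX.UniversallyInjective R (LinearMap.ker g).subtype) (φ : P →ₗ[R] N)
    (hφ : ∀ x, φ x ∈ LinearMap.range g) : ∃ ψ : P →ₗ[R] M, g ∘ₗ ψ = φ := by
  obtain ⟨ψ, hψ⟩ := hP g.rangeRestrict g.surjective_rangeRestrict
    (by rw [LinearMap.ker_rangeRestrict]; exact hu) (φ.codRestrict _ hφ)
  exact ⟨ψ, LinearMap.ext fun x => congrArg Subtype.val congr($hψ x)⟩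

/-- A pure injective module extends along a map with universally injective image. -/
theorem IsPureInjective.exists_extend {I : Type u} [AddCommGroup I] [Module R I]
    (hI : IsPureInjective R I) (g : M →ₗ[R] N)
    (hu : CAlgX.UniversallyInjective R (LinearMap.range g).subtype) (φ : M →ₗ[R] I)
    (hφ : LinearMap.ker g ≤ LinearMap.ker φ) : ∃ ψ : N →ₗ[R] I, ψ ∘ₗ g = φ := by
  obtain ⟨ψ, hψ⟩ := hI (LinearMap.range g).subtype hu
    ((Submodule.liftQ _ φ hφ) ∘ₗ g.quotKerEquivRange.symm.toLinearMap)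
  refine ⟨ψ, LinearMap.ext fun x => ?_⟩
  have := congr($hψ ⟨g x, x, rfl⟩)
  simpa using this.trans (congrArg (Submodule.liftQ _ φ hφ)
    ((LinearEquiv.symm_apply_eq g.quotKerEquivRange).mpr
      (Subtype.ext (g.quotKerEquivRange_apply_mk x).symm)))

end Groth.Agent.PureExt32
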