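import Groth.Agent.PureExt32.Basic
import Mathlib.Algebra.Category.ModuleCat.Monoidal.Basic
import Mathlib.Algebra.Homology.QuasiIso
import Mathlib.Algebra.Homology.ShortComplex.ModuleCat
import Mathlib.Algebra.Homology.Homotopy
import Mathlib.Algebra.Homology.Single
import Mathlib.CategoryTheory.Monoidal.Preadditive
import Mathlib.Algebra.Category.ModuleCat.Abelian
import Mathlib.Algebra.Homology.ShortComplex.HomologicalComplex
import Mathlib.LinearAlgebra.TensorProduct.RightExactness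

/-!
# Universally exact resolutions

Quasi-isomorphisms after every tensor product, elementwise; lifting and extension along them.
-/

set_option autoImplicit false
universe u
open CategoryTheory Limits MonoidalCategory TensorProduct

namespace Groth.Agent.PureExt32

variable {R : Type u} [CommRing R]

section Chain

variable {S P : ChainComplex (ModuleCat.{u} R) ℕ}

lemma chain_exactAt_succ_iff (n : ℕ) :
    P.ExactAt (n + 1) ↔ Function.Exact (P.d (n + 2) (n + 1)).hom (P.d (n + 1) n).hom := by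
  rw [P.exactAt_iff' (n + 2) (n + 1) n (by simp) (by simp)]
  exact ShortComplex.ShortExact.moduleCat_exact_iff_function_exact _

lemma chain_quasiIso_iff (hS : ∀ n : ℕ, IsZero (S.X (n + 1))) (f : P ⟶ S) :
    QuasiIso f ↔ (∀ n : ℕ, Function.Exact (P.d (n + 2) (n + 1)).hom (P.d (n + 1) n).hom) ∧
      Function.Exact (P.d 1 0).hom (f.f 0).hom ∧ Function.Surjective (f.f 0).hom := by
  rw [quasiIso_iff]
  have h0 : QuasiIsoAt f 0 ↔
      Function.Exact (P.d 1 0).hom (f.f 0).hom ∧ Function.Surjective (f.f 0).hom := by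
    rw [quasiIsoAt_iff' f 1 0 0 (by simp) (by simp)]
    refine (ShortComplex.quasiIso_iff_of_zeros'
      ((HomologicalComplex.shortComplexFunctor' _ _ 1 0 0).map f)
      (P.shape 0 0 (by simp)) ((hS 0).eq_of_src _ _) (S.shape 0 0 (by simp))).trans ?_
    exact and_congr (ShortComplex.ShortExact.moduleCat_exact_iff_function_exact _)
      (ModuleCat.epi_iff_surjective _)
  have hs : ∀ n : ℕ, QuasiIsoAt f (n + 1) ↔ P.ExactAt (n + 1) := fun n => by
    apply quasiIsoAt_iff_exactAt'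
    rw [S.exactAt_iff' (n + 2) (n + 1) n (by simp) (by simp)]
    exact ShortComplex.exact_of_isZero_X₂ _ (hS n)
  constructor
  · intro h
    exact ⟨fun n => (chain_exactAt_succ_iff n).mp ((hs n).mp (h _)), h0.mp (h 0)⟩
  · intro h n
    cases n with
    | zero => exact h0.mpr h.2
    | succ n => exact (hs n).mpr ((chain_exactAt_succ_iff n).mpr (h.1 n))

variable {M : ModuleCat.{u} R}

/-- A quasi-isomorphism to a module in degree `0` after every tensor product, elementwise. -/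
theorem chain_univExact_iff (π : P ⟶ (ChainComplex.single₀ (ModuleCat.{u} R)).obj M) :
    (∀ T : ModuleCat.{u} R,
      QuasiIso (((tensorRight T).mapHomologicalComplex (ComplexShape.down ℕ)).map π)) ↔
    ∀ T : ModuleCat.{u} R,
      (∀ n : ℕ, Function.Exact ((P.d (n + 2) (n + 1)).hom.rTensor T) ((P.d (n + 1) n).hom.rTensor T)) ∧
        Function.Exact ((P.d 1 0).hom.rTensor T) ((π.f 0).hom.rTensor T) ∧
        Function.Surjective ((π.f 0).hom.rTensor T) := by
  refine forall_congr' fun T => ?_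
  refine (chain_quasiIso_iff (fun n => ?_) _).trans Iff.rfl
  exact (tensorRight T).map_isZero
    (HomologicalComplex.isZero_single_obj_X (ComplexShape.down ℕ) 0 M (n + 1) (by simp))

end Chain

section Cochain

variable {S P : CochainComplex (ModuleCat.{u} R) ℕ}

lemma cochain_exactAt_succ_iff (n : ℕ) :
    P.ExactAt (n + 1) ↔ Function.Exact (P.d n (n + 1)).hom (P.d (n + 1) (n + 2)).hom := by
  rw [P.exactAt_iff' n (n + 1) (n + 2) (by simp) (by simp)]
  exact ShortComplex.ShortExact.moduleCat_exact_iff_function_exact _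

lemma cochain_quasiIso_iff (hS : ∀ n : ℕ, IsZero (S.X (n + 1))) (f : S ⟶ P) :
    QuasiIso f ↔ (∀ n : ℕ, Function.Exact (P.d n (n + 1)).hom (P.d (n + 1) (n + 2)).hom) ∧
      Function.Exact (f.f 0).hom (P.d 0 1).hom ∧ Function.Injective (f.f 0).hom := by
  rw [quasiIso_iff]
  have h0 : QuasiIsoAt f 0 ↔
      Function.Exact (f.f 0).hom (P.d 0 1).hom ∧ Function.Injective (f.f 0).hom := by
    rw [quasiIsoAt_iff' f 0 0 1 (by simp) (by simp)]
    refine (ShortComplex.quasiIso_iff_of_zeros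
      ((HomologicalComplex.shortComplexFunctor' _ _ 0 0 1).map f)
      (S.shape 0 0 (by simp)) ((hS 0).eq_of_tgt _ _) (P.shape 0 0 (by simp))).trans ?_
    exact and_congr (ShortComplex.ShortExact.moduleCat_exact_iff_function_exact _)
      (ModuleCat.mono_iff_injective _)
  have hs : ∀ n : ℕ, QuasiIsoAt f (n + 1) ↔ P.ExactAt (n + 1) := fun n => by
    apply quasiIsoAt_iff_exactAt
    rw [S.exactAt_iff' n (n + 1) (n + 2) (by simp) (by simp)]
    exact ShortComplex.exact_of_isZero_X₂ _ (hS n)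
  constructor
  · intro h
    exact ⟨fun n => (cochain_exactAt_succ_iff n).mp ((hs n).mp (h _)), h0.mp (h 0)⟩
  · intro h n
    cases n with
    | zero => exact h0.mpr h.2
    | succ n => exact (hs n).mpr ((cochain_exactAt_succ_iff n).mpr (h.1 n))

variable {M : ModuleCat.{u} R}

/-- A quasi-isomorphism from a module in degree `0` after every tensor product, elementwise. -/
theorem cochain_univExact_iff (η : (CochainComplex.single₀ (ModuleCat.{u} R)).obj M ⟶ P) :
    (∀ T : ModuleCat.{u} R,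
      QuasiIso (((tensorRight T).mapHomologicalComplex (ComplexShape.up ℕ)).map η)) ↔
    ∀ T : ModuleCat.{u} R,
      (∀ n : ℕ, Function.Exact ((P.d n (n + 1)).hom.rTensor T) ((P.d (n + 1) (n + 2)).hom.rTensor T)) ∧
        Function.Exact ((η.f 0).hom.rTensor T) ((P.d 0 1).hom.rTensor T) ∧
        Function.Injective ((η.f 0).hom.rTensor T) := by
  refine forall_congr' fun T => ?_
  refine (cochain_quasiIso_iff (fun n => ?_) _).trans Iff.rfl
  exact (tensorRight T).map_isZero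
    (HomologicalComplex.isZero_single_obj_X (ComplexShape.up ℕ) 0 M (n + 1) (by simp))

end Cochain

section Lift

/-- An elementwise universally exact augmented chain complex. -/
structure UnivExactChain (N' : ChainComplex (ModuleCat.{u} R) ℕ) (N : ModuleCat.{u} R)
    (ε : N'.X 0 ⟶ N) : Prop where
  exact_succ : ∀ (T : Type u) [AddCommGroup T] [Module R T] (n : ℕ),
    Function.Exact ((N'.d (n + 2) (n + 1)).hom.rTensor T) ((N'.d (n + 1) n).hom.rTensor T)
  exact_zero : ∀ (T : Type u) [AddCommGroup T] [Module R T],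
    Function.Exact ((N'.d 1 0).hom.rTensor T) (ε.hom.rTensor T)
  surjective : Function.Surjective ε.hom

/-- An elementwise universally exact coaugmented cochain complex. -/
structure UnivExactCochain (M : ModuleCat.{u} R) (M' : CochainComplex (ModuleCat.{u} R) ℕ)
    (η : M ⟶ M'.X 0) : Prop where
  exact_succ : ∀ (T : Type u) [AddCommGroup T] [Module R T] (n : ℕ),
    Function.Exact ((M'.d n (n + 1)).hom.rTensor T) ((M'.d (n + 1) (n + 2)).hom.rTensor T)
  exact_zero : ∀ (T : Type u) [AddCommGroup T] [Module R T],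
    Function.Exact (η.hom.rTensor T) ((M'.d 0 1).hom.rTensor T)
  injective : ∀ (T : Type u) [AddCommGroup T] [Module R T], Function.Injective (η.hom.rTensor T)

variable {A B C : Type u} [AddCommGroup A] [Module R A] [AddCommGroup B] [Module R B]
  [AddCommGroup C] [Module R C]

lemma exact_of_rTensor (f : A →ₗ[R] B) (g : B →ₗ[R] C)
    (h : Function.Exact (f.rTensor R) (g.rTensor R)) : Function.Exact f g := by
  refine (Function.Exact.iff_of_ladder_linearEquiv (f₁₂ := f.rTensor R) (f₂₃ := g.rTensor R)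
    (e₁ := TensorProduct.rid R A) (e₂ := TensorProduct.rid R B) (e₃ := TensorProduct.rid R C)
    ?_ ?_).mpr h
  · ext a; simp
  · ext a; simp

namespace UnivExactChain

variable {N' : ChainComplex (ModuleCat.{u} R) ℕ} {N : ModuleCat.{u} R} {ε : N'.X 0 ⟶ N}
  (h : UnivExactChain N' N ε)
include h

lemma lift_zero {P : ModuleCat.{u} R} (hP : IsPureProjective R P) (φ : P ⟶ N) :
    ∃ ψ : P ⟶ N'.X 0, ψ ≫ ε = φ := by
  have hk : CAlgX.UniversallyInjective R (LinearMap.ker ε.hom).subtype := by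
    rw [(exact_of_rTensor _ _ (h.exact_zero R)).linearMap_ker_eq]
    exact univInj_range_of_exact _ _ fun T => h.exact_succ T 0
  obtain ⟨ψ, hψ⟩ := hP.exists_lift ε.hom hk φ.hom fun x => h.surjective _
  exact ⟨ModuleCat.ofHom ψ, ModuleCat.hom_ext hψ⟩

lemma lift_succ {P : ModuleCat.{u} R} (hP : IsPureProjective R P) (n : ℕ) (φ : P ⟶ N'.X n)
    (hφ : ∀ x, φ.hom x ∈ LinearMap.range (N'.d (n + 1) n).hom) :
    ∃ ψ : P ⟶ N'.X (n + 1), ψ ≫ N'.d (n + 1) n = φ := by
  have hk : CAlgX.UniversallyInjective R (LinearMap.ker (N'.d (n + 1) n).hom).subtype := by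
    rw [(exact_of_rTensor _ _ (h.exact_succ R n)).linearMap_ker_eq]
    exact univInj_range_of_exact _ _ fun T => h.exact_succ T (n + 1)
  obtain ⟨ψ, hψ⟩ := hP.exists_lift _ hk φ.hom hφ
  exact ⟨ModuleCat.ofHom ψ, ModuleCat.hom_ext hψ⟩

lemma mem_range_zero {P : ModuleCat.{u} R} (φ : P ⟶ N'.X 0) (hφ : φ ≫ ε = 0) (x : P) :
    φ.hom x ∈ LinearMap.range (N'.d 1 0).hom :=
  (exact_of_rTensor _ _ (h.exact_zero R) _).mp congr(($hφ).hom x)

lemma mem_range_succ {P : ModuleCat.{u} R} (n : ℕ) (φ : P ⟶ N'.X (n + 1))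
    (hφ : φ ≫ N'.d (n + 1) n = 0) (x : P) :
    φ.hom x ∈ LinearMap.range (N'.d (n + 2) (n + 1)).hom :=
  (exact_of_rTensor _ _ (h.exact_succ R n) _).mp congr(($hφ).hom x)

lemma exists_chainMap {M : ModuleCat.{u} R} (P : ChainComplex (ModuleCat.{u} R) ℕ)
    (hP : ∀ n, IsPureProjective R (P.X n)) (π : P.X 0 ⟶ M) (hπ : P.d 1 0 ≫ π = 0) (f : M ⟶ N) :
    ∃ φ : P ⟶ N', φ.f 0 ≫ ε = π ≫ f := by
  choose φ₀ h₀ using h.lift_zero (hP 0) (π ≫ f)
  choose φ₁ h₁ using h.lift_succ (hP 1) 0 (P.d 1 0 ≫ φ₀) (h.mem_range_zero _ (by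
    rw [Category.assoc, h₀, ← Category.assoc, hπ, zero_comp]))
  refine ⟨ChainComplex.mkHom P N' φ₀ φ₁ h₁ fun n p => ?_, h₀⟩
  have := h.lift_succ (hP (n + 2)) (n + 1) (P.d (n + 2) (n + 1) ≫ p.2.1) (h.mem_range_succ n _ (by
    rw [Category.assoc, p.2.2, ← Category.assoc, P.d_comp_d, zero_comp]))
  exact ⟨this.choose, this.choose_spec⟩

lemma homotopy_zero (P : ChainComplex (ModuleCat.{u} R) ℕ)
    (hP : ∀ n, IsPureProjective R (P.X n)) (e : P ⟶ N') (he : e.f 0 ≫ ε = 0) :
    Nonempty (Homotopy e 0) := by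
  choose s₀ hs₀ using h.lift_succ (hP 0) 0 (e.f 0) (h.mem_range_zero _ he)
  choose s₁ hs₁ using h.lift_succ (hP 1) 1 (e.f 1 - P.d 1 0 ≫ s₀) (h.mem_range_succ 0 _ (by
    rw [Preadditive.sub_comp, Category.assoc, hs₀, e.comm, sub_self]))
  refine ⟨Homotopy.mkInductive e s₀ hs₀.symm s₁ (by rw [hs₁]; abel) fun n p => ?_⟩
  have := h.lift_succ (hP (n + 2)) (n + 2) (e.f (n + 2) - P.d (n + 2) (n + 1) ≫ p.2.1)
    (h.mem_range_succ (n + 1) _ (by
      rw [Preadditive.sub_comp, Category.assoc, e.comm]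
      conv_lhs => arg 1; rw [p.2.2]
      rw [Preadditive.comp_add, ← Category.assoc, P.d_comp_d, zero_comp, zero_add, sub_self]))
  exact ⟨this.choose, by rw [this.choose_spec]; abel⟩

end UnivExactChain

namespace UnivExactCochain

variable {M' : CochainComplex (ModuleCat.{u} R) ℕ} {M : ModuleCat.{u} R} {η : M ⟶ M'.X 0}
  (h : UnivExactCochain M M' η)
include h

lemma extend_zero {I : ModuleCat.{u} R} (hI : IsPureInjective R I) (φ : M ⟶ I) :
    ∃ ψ : M'.X 0 ⟶ I, η ≫ ψ = φ := by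
  obtain ⟨ψ, hψ⟩ := hI η.hom h.injective φ.hom
  exact ⟨ModuleCat.ofHom ψ, ModuleCat.hom_ext hψ⟩

lemma ker_le_zero {I : ModuleCat.{u} R} (φ : M'.X 0 ⟶ I) (hφ : η ≫ φ = 0) :
    LinearMap.ker (M'.d 0 1).hom ≤ LinearMap.ker φ.hom := by
  intro x hx
  obtain ⟨m, rfl⟩ := (exact_of_rTensor _ _ (h.exact_zero R) x).mp hx
  exact congr(($hφ).hom m)

lemma ker_le_succ {I : ModuleCat.{u} R} (n : ℕ) (φ : M'.X (n + 1) ⟶ I)
    (hφ : M'.d n (n + 1) ≫ φ = 0) :
    LinearMap.ker (M'.d (n + 1) (n + 2)).hom ≤ LinearMap.ker φ.hom := by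
  intro x hx
  obtain ⟨m, rfl⟩ := (exact_of_rTensor _ _ (h.exact_succ R n) x).mp hx
  exact congr(($hφ).hom m)

lemma extend_succ {I : ModuleCat.{u} R} (hI : IsPureInjective R I) (n : ℕ) (φ : M'.X n ⟶ I)
    (hφ : LinearMap.ker (M'.d n (n + 1)).hom ≤ LinearMap.ker φ.hom) :
    ∃ ψ : M'.X (n + 1) ⟶ I, M'.d n (n + 1) ≫ ψ = φ := by
  obtain ⟨ψ, hψ⟩ := hI.exists_extend (M'.d n (n + 1)).hom (by
    cases n with
    | zero => exact univInj_range_of_exact _ _ fun T => h.exact_zero T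
    | succ n => exact univInj_range_of_exact _ _ fun T => h.exact_succ T n) φ.hom hφ
  exact ⟨ModuleCat.ofHom ψ, ModuleCat.hom_ext hψ⟩

lemma exists_cochainMap {N : ModuleCat.{u} R} (I : CochainComplex (ModuleCat.{u} R) ℕ)
    (hI : ∀ n, IsPureInjective R (I.X n)) (ε : N ⟶ I.X 0) (hε : ε ≫ I.d 0 1 = 0) (f : M ⟶ N) :
    ∃ φ : M' ⟶ I, η ≫ φ.f 0 = f ≫ ε := by
  choose φ₀ h₀ using h.extend_zero (hI 0) (f ≫ ε)
  choose φ₁ h₁ using h.extend_succ (hI 1) 0 (φ₀ ≫ I.d 0 1) (h.ker_le_zero _ (by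
    rw [← Category.assoc, h₀, Category.assoc, hε, comp_zero]))
  refine ⟨CochainComplex.mkHom M' I φ₀ φ₁ h₁.symm fun n p => ?_, h₀⟩
  have := h.extend_succ (hI (n + 2)) (n + 1) (p.2.1 ≫ I.d (n + 1) (n + 2)) (h.ker_le_succ n _ (by
    rw [← Category.assoc, ← p.2.2, Category.assoc, I.d_comp_d, comp_zero]))
  exact ⟨this.choose, this.choose_spec.symm⟩

lemma homotopy_zero (I : CochainComplex (ModuleCat.{u} R) ℕ)
    (hI : ∀ n, IsPureInjective R (I.X n)) (e : M' ⟶ I) (he : η ≫ e.f 0 = 0) :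
    Nonempty (Homotopy e 0) := by
  choose s₀ hs₀ using h.extend_succ (hI 0) 0 (e.f 0) (h.ker_le_zero _ he)
  choose s₁ hs₁ using h.extend_succ (hI 1) 1 (e.f 1 - s₀ ≫ I.d 0 1) (h.ker_le_succ 0 _ (by
    rw [Preadditive.comp_sub, ← Category.assoc, hs₀, ← e.comm, sub_self]))
  refine ⟨Homotopy.mkCoinductive e s₀ hs₀.symm s₁ (by rw [hs₁]; abel) fun n p => ?_⟩
  have := h.extend_succ (hI (n + 2)) (n + 2) (e.f (n + 2) - p.2.1 ≫ I.d (n + 1) (n + 2))
    (h.ker_le_succ (n + 1) _ (by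
      rw [Preadditive.comp_sub, ← Category.assoc, ← e.comm]
      conv_lhs => arg 1; rw [p.2.2]
      rw [Preadditive.add_comp, Category.assoc, I.d_comp_d, comp_zero, zero_add, sub_self]))
  exact ⟨this.choose, by rw [this.choose_spec]; abel⟩

end UnivExactCochain

lemma univExactChain_of_quasiIso {P : ChainComplex (ModuleCat.{u} R) ℕ} {M : ModuleCat.{u} R}
    (π : P ⟶ (ChainComplex.single₀ (ModuleCat.{u} R)).obj M)
    (h : ∀ T : ModuleCat.{u} R,
      QuasiIso (((tensorRight T).mapHomologicalComplex (ComplexShape.down ℕ)).map π)) :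
    UnivExactChain P M (π.f 0) := by
  have hh := (chain_univExact_iff π).mp h
  refine ⟨fun T _ _ n => (hh (ModuleCat.of R T)).1 n, fun T _ _ => (hh (ModuleCat.of R T)).2.1, ?_⟩
  intro x
  obtain ⟨y, hy⟩ := (hh (ModuleCat.of R R)).2.2 (x ⊗ₜ[R] (1 : R))
  refine ⟨TensorProduct.rid R _ y, ?_⟩
  have h1 : (π.f 0).hom ∘ₗ (TensorProduct.rid R _).toLinearMap =
      (TensorProduct.rid R _).toLinearMap ∘ₗ (π.f 0).hom.rTensor R :=
    TensorProduct.ext' fun a b =>
      ((map_smul (π.f 0).hom b a).trans (TensorProduct.rid_tmul _ b).symm)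
  exact (congr($h1 y)).trans ((congrArg (TensorProduct.rid R _) hy).trans
    ((TensorProduct.rid_tmul x (1 : R)).trans (one_smul R x)))

lemma univExactCochain_of_quasiIso {P : CochainComplex (ModuleCat.{u} R) ℕ} {M : ModuleCat.{u} R}
    (η : (CochainComplex.single₀ (ModuleCat.{u} R)).obj M ⟶ P)
    (h : ∀ T : ModuleCat.{u} R,
      QuasiIso (((tensorRight T).mapHomologicalComplex (ComplexShape.up ℕ)).map η)) :
    UnivExactCochain M P (η.f 0) := by
  have hh := (cochain_univExact_iff η).mp h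
  exact ⟨fun T _ _ n => (hh (ModuleCat.of R T)).1 n, fun T _ _ => (hh (ModuleCat.of R T)).2.1,
    fun T _ _ => (hh (ModuleCat.of R T)).2.2⟩

end Lift

end Groth.Agent.PureExt32
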