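import Groth.Agent.PureExt32.Cx

/-!
# Existence of pure projective and pure injective resolutions
-/

set_option autoImplicit false
universe u
open CategoryTheory MonoidalCategory

namespace Groth.Agent.PureExt32

variable {R : Type u} [CommRing R]

/-- The property of being a direct summand of a direct sum of finitely presented modules. -/
def IsSummand (P : ModuleCat.{u} R) : Prop :=
  ∃ (ι : Type u) (Q : ι → Type u) (_ : ∀ i, AddCommGroup (Q i)) (_ : ∀ i, Module R (Q i)),
    (∀ i, Module.FinitePresentation R (Q i)) ∧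
    ∃ (s : P →ₗ[R] (Π₀ i, Q i)) (r : (Π₀ i, Q i) →ₗ[R] P), r ∘ₗ s = LinearMap.id

lemma exists_cover_bundled (M : ModuleCat.{u} R) :
    ∃ (P : ModuleCat.{u} R) (g : P ⟶ M), IsSummand P ∧ Function.Surjective g.hom ∧
      CAlgX.UniversallyInjective R (LinearMap.ker g.hom).subtype := by
  obtain ⟨ι, Q, i1, i2, hQ, g, hg, hu⟩ := exists_pure_cover (R := R) M
  exact ⟨ModuleCat.of R (Π₀ i, Q i), ModuleCat.ofHom g,
    ⟨ι, Q, i1, i2, hQ, LinearMap.id, LinearMap.id, rfl⟩, hg, hu⟩

/-- The pure cover. -/
noncomputable def cov (M : ModuleCat.{u} R) : ModuleCat.{u} R := (exists_cover_bundled M).choose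

/-- The map from the pure cover. -/
noncomputable def covMap (M : ModuleCat.{u} R) : cov M ⟶ M :=
  (exists_cover_bundled M).choose_spec.choose

lemma cov_spec (M : ModuleCat.{u} R) : IsSummand (cov M) ∧ Function.Surjective (covMap M).hom ∧
    CAlgX.UniversallyInjective R (LinearMap.ker (covMap M).hom).subtype :=
  (exists_cover_bundled M).choose_spec.choose_spec

/-- Iterated kernels of pure covers. -/
noncomputable def syz (M : ModuleCat.{u} R) : ℕ → ModuleCat.{u} R
  | 0 => M
  | n + 1 => ModuleCat.of R (LinearMap.ker (covMap (syz M n)).hom)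

/-- The inclusion of a syzygy. -/
noncomputable def syzIncl (M : ModuleCat.{u} R) (n : ℕ) : syz M (n + 1) ⟶ cov (syz M n) :=
  ModuleCat.ofHom (LinearMap.ker (covMap (syz M n)).hom).subtype

lemma syzIncl_covMap (M : ModuleCat.{u} R) (n : ℕ) : syzIncl M n ≫ covMap (syz M n) = 0 :=
  ModuleCat.hom_ext (LinearMap.ext fun x => x.2)

/-- The pure projective resolution. -/
noncomputable def res (M : ModuleCat.{u} R) : ChainComplex (ModuleCat.{u} R) ℕ :=
  ChainComplex.of (fun n => cov (syz M n)) (fun n => covMap (syz M (n + 1)) ≫ syzIncl M n)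
    fun n => by
      rw [Category.assoc, ← Category.assoc (syzIncl M (n + 1)), syzIncl_covMap]
      simp

lemma res_d (M : ModuleCat.{u} R) (n : ℕ) :
    (res M).d (n + 1) n = covMap (syz M (n + 1)) ≫ syzIncl M n :=
  ChainComplex.of_d (fun n => cov (syz M n)) (fun n => covMap (syz M (n + 1)) ≫ syzIncl M n) n

lemma res_d_rTensor (M : ModuleCat.{u} R) (n : ℕ) (T : Type u) [AddCommGroup T] [Module R T] :
    ((res M).d (n + 1) n).hom.rTensor T =
      (syzIncl M n).hom.rTensor T ∘ₗ (covMap (syz M (n + 1))).hom.rTensor T := by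
  rw [res_d]
  exact LinearMap.rTensor_comp T _ _

lemma res_exact (M : ModuleCat.{u} R) (n : ℕ) (T : Type u) [AddCommGroup T] [Module R T] :
    Function.Exact (((res M).d (n + 1) n).hom.rTensor T) ((covMap (syz M n)).hom.rTensor T) := by
  rw [res_d]
  intro z
  refine (rTensor_exact T (LinearMap.exact_subtype_ker_map (covMap (syz M n)).hom)
    (cov_spec _).2.1 z).trans ⟨?_, ?_⟩
  · rintro ⟨w, rfl⟩
    obtain ⟨v, rfl⟩ := LinearMap.rTensor_surjective T (cov_spec (syz M (n + 1))).2.1 w
    exact ⟨v, congr($(LinearMap.rTensor_comp T _ _) v)⟩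
  · rintro ⟨v, rfl⟩
    exact ⟨(covMap (syz M (n + 1))).hom.rTensor T v,
      (congr($(LinearMap.rTensor_comp T _ _) v)).symm⟩

theorem exists_pureProjective_resolution (M : ModuleCat.{u} R) :
    ∃ (P : ChainComplex (ModuleCat.{u} R) ℕ)
      (π : P ⟶ (ChainComplex.single₀ (ModuleCat.{u} R)).obj M),
      (∀ n : ℕ, IsSummand (P.X n)) ∧ ∀ N : ModuleCat.{u} R,
        QuasiIso (((tensorRight N).mapHomologicalComplex (ComplexShape.down ℕ)).map π) := by
  have h0 : (res M).d 1 0 ≫ covMap (syz M 0) = 0 := by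
    rw [res_d]
    exact (Category.assoc _ _ _).trans ((congrArg _ (syzIncl_covMap M 0)).trans Limits.comp_zero)
  refine ⟨res M, (ChainComplex.toSingle₀Equiv (res M) M).symm ⟨covMap (syz M 0), h0⟩,
    fun n => (cov_spec _).1, (chain_univExact_iff _).mpr fun T => ⟨fun n => ?_, ?_, ?_⟩⟩
  · intro z
    refine Iff.trans ?_ (res_exact M (n + 1) T z)
    rw [res_d_rTensor]
    exact map_eq_zero_iff _ ((cov_spec (syz M n)).2.2 T)
  · rw [ChainComplex.toSingle₀Equiv_symm_apply_f_zero]
    exact res_exact M 0 T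
  · rw [ChainComplex.toSingle₀Equiv_symm_apply_f_zero]
    exact LinearMap.rTensor_surjective T (cov_spec _).2.1

/-- The double character module. -/
noncomputable abbrev env (M : ModuleCat.{u} R) : ModuleCat.{u} R :=
  ModuleCat.of R (CharacterModule (CharacterModule M))

/-- Iterated cokernels of double duals. -/
noncomputable def cosyz (M : ModuleCat.{u} R) : ℕ → ModuleCat.{u} R
  | 0 => M
  | n + 1 => ModuleCat.of R (env (cosyz M n) ⧸ LinearMap.range (PureExt.charEval R (cosyz M n)))

/-- The projection to a cosyzygy. -/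
noncomputable def cosyzProj (M : ModuleCat.{u} R) (n : ℕ) : env (cosyz M n) ⟶ cosyz M (n + 1) :=
  ModuleCat.ofHom (Submodule.mkQ _)

/-- The evaluation map. -/
noncomputable def evalMap (M : ModuleCat.{u} R) (n : ℕ) : cosyz M n ⟶ env (cosyz M n) :=
  ModuleCat.ofHom (PureExt.charEval R (cosyz M n))

lemma evalMap_proj (M : ModuleCat.{u} R) (n : ℕ) : evalMap M n ≫ cosyzProj M n = 0 :=
  ModuleCat.hom_ext (LinearMap.range_mkQ_comp _)

/-- The pure injective resolution. -/
noncomputable def cores (M : ModuleCat.{u} R) : CochainComplex (ModuleCat.{u} R) ℕ :=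
  CochainComplex.of (fun n => env (cosyz M n)) (fun n => cosyzProj M n ≫ evalMap M (n + 1))
    fun n => by
      rw [Category.assoc, ← Category.assoc (evalMap M (n + 1)), evalMap_proj]
      simp

lemma cores_d (M : ModuleCat.{u} R) (n : ℕ) :
    (cores M).d n (n + 1) = cosyzProj M n ≫ evalMap M (n + 1) :=
  CochainComplex.of_d (fun n => env (cosyz M n)) (fun n => cosyzProj M n ≫ evalMap M (n + 1)) n

lemma cores_d_rTensor (M : ModuleCat.{u} R) (n : ℕ) (T : Type u) [AddCommGroup T] [Module R T] :
    ((cores M).d n (n + 1)).hom.rTensor T =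
      (evalMap M (n + 1)).hom.rTensor T ∘ₗ (cosyzProj M n).hom.rTensor T := by
  rw [cores_d]
  exact LinearMap.rTensor_comp T _ _

lemma cores_exact (M : ModuleCat.{u} R) (n : ℕ) (T : Type u) [AddCommGroup T] [Module R T] :
    Function.Exact ((evalMap M n).hom.rTensor T) (((cores M).d n (n + 1)).hom.rTensor T) := by
  rw [cores_d_rTensor]
  intro z
  refine (map_eq_zero_iff _ (univInj_charEval _ T)).trans ?_
  exact rTensor_exact T (LinearMap.exact_map_mkQ_range (PureExt.charEval R (cosyz M n)))
    (Submodule.mkQ_surjective _) z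

theorem exists_pureInjective_resolution (M : ModuleCat.{u} R) :
    ∃ (I : CochainComplex (ModuleCat.{u} R) ℕ)
      (η : (CochainComplex.single₀ (ModuleCat.{u} R)).obj M ⟶ I),
      (∀ n : ℕ, IsPureInjective R (I.X n)) ∧ ∀ T : ModuleCat.{u} R,
        QuasiIso (((tensorRight T).mapHomologicalComplex (ComplexShape.up ℕ)).map η) := by
  have h0 : evalMap M 0 ≫ (cores M).d 0 1 = 0 := by
    rw [cores_d]
    exact (Category.assoc _ _ _).symm.trans
      ((congrArg (· ≫ evalMap M 1) (evalMap_proj M 0)).trans Limits.zero_comp)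
  refine ⟨cores M, (CochainComplex.fromSingle₀Equiv (cores M) M).symm ⟨evalMap M 0, h0⟩,
    fun n => isPureInjective_characterModule _,
    (cochain_univExact_iff _).mpr fun T => ⟨fun n => ?_, ?_, ?_⟩⟩
  · intro z
    refine (cores_exact M (n + 1) T z).trans ⟨?_, ?_⟩
    · rintro ⟨w, rfl⟩
      obtain ⟨v, rfl⟩ := LinearMap.rTensor_surjective T (Submodule.mkQ_surjective _ :
        Function.Surjective (cosyzProj M n).hom) w
      refine ⟨v, ?_⟩
      rw [cores_d]
      exact congr($(LinearMap.rTensor_comp T _ _) v)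
    · rintro ⟨v, rfl⟩
      refine ⟨(cosyzProj M n).hom.rTensor T v, ?_⟩
      rw [cores_d]
      exact (congr($(LinearMap.rTensor_comp T _ _) v)).symm
  · rw [CochainComplex.fromSingle₀Equiv_symm_apply_f_zero]
    exact cores_exact M 0 T
  · rw [CochainComplex.fromSingle₀Equiv_symm_apply_f_zero]
    exact univInj_charEval _ T

end Groth.Agent.PureExt32
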